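import Groth.Agent.DepthPushStalkLib.Main

/-!
# Depth of a stalk of the direct image of a flat module
-/

set_option autoImplicit false
set_option backward.isDefEq.respectTransparency false
set_option linter.style.haveILetI false

universe u

open CategoryTheory CategoryTheory.Limits AlgebraicGeometry TopologicalSpace Opposite DevissLib
open RingTheory.Sequence Pointwise

noncomputable section

namespace DepthPushStalkLib

variable {X S : Scheme.{u}} {f : X ⟶ S} {F : X.Modules}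

theorem appLE_res_germ {W : S.Opens} {s : S} (hs : s ∈ W) {W' : S.Opens} (hW : W' ≤ W) (hs' : s ∈ W')
    (r : Γ(S, W)) : S.presheaf.germ W' s hs' (S.presheaf.map (homOfLE hW).op r) = S.presheaf.germ W s hs r :=
  TopCat.Presheaf.germ_res_apply _ _ _ _ _

/-- A section on an affine open killed by a regular element of the local ring vanishes near `s`. -/
theorem exists_zero_affine [Coh.IsQCoh F] (hflat : FlatMod.IsFlatOver f F) {s : S} {W : S.Opens}
    (hW : IsAffineOpen W) (hsW : s ∈ W) (a : Γ(S, W))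
    (ha : IsSMulRegular (S.presheaf.stalk s) (S.presheaf.germ W s hsW a))
    {V : X.Opens} (hV : IsAffineOpen V) (hVW : V ≤ f ⁻¹ᵁ W) (δ : Γ(F, V))
    (h : f.appLE W V hVW a • δ = 0) :
    ∃ (W' : S.Opens), s ∈ W' ∧
      F.presheaf.map (homOfLE (inf_le_left : V ⊓ f ⁻¹ᵁ W' ≤ V)).op δ = 0 := by
  letI : Algebra Γ(S, W) Γ(X, V) := (f.appLE W V hVW).hom.toAlgebra
  letI : Module Γ(S, W) Γ(F, V) := Module.compHom Γ(F, V) (f.appLE W V hVW).hom
  haveI : IsScalarTower Γ(S, W) Γ(X, V) Γ(F, V) := IsScalarTower.of_algebraMap_smul fun _ _ => rfl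
  haveI : Module.Flat Γ(S, W) Γ(F, V) := MiscFlat6.QFlat.flat_sections f F hflat W hW V hV hVW rfl
  obtain ⟨k, c, y, hc, hc0⟩ := Module.Flat.isTrivialRelation_of_sum_smul_eq_zero
    (f := fun _ : Fin 1 => a) (x := fun _ : Fin 1 => δ) (by rw [Fin.sum_univ_one]; exact h)
  have hg : ∀ j, S.presheaf.germ W s hsW (c 0 j) = 0 := fun j => by
    refine ha (?_ : _ • _ = _ • (0 : S.presheaf.stalk s))
    rw [smul_zero, smul_eq_mul, ← map_mul]
    have := hc0 j
    rw [Fin.sum_univ_one] at this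
    rw [this, map_zero]
  obtain ⟨W', hW', hsW', hz⟩ := exists_zero hsW (fun j => c 0 j) hg
  refine ⟨W', hsW', ?_⟩
  rw [show δ = _ from hc 0, map_sum]
  refine Finset.sum_eq_zero fun j _ => ?_
  have he : c 0 j • y j = f.appLE W V hVW (c 0 j) • y j := rfl
  rw [he, AssPointLib.res_smul,
    res_appLE f hW' hVW inf_le_left inf_le_right (c 0 j)]
  rw [hz j, map_zero, zero_smul]

/-- The same on a quasi-compact open of the preimage. -/
theorem exists_zero_compact [Coh.IsQCoh F] (hflat : FlatMod.IsFlatOver f F) {s : S} {W : S.Opens}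
    (hW : IsAffineOpen W) (hsW : s ∈ W) (a : Γ(S, W))
    (ha : IsSMulRegular (S.presheaf.stalk s) (S.presheaf.germ W s hsW a))
    {O : X.Opens} (hO : IsCompact (O : Set X)) (hOW : O ≤ f ⁻¹ᵁ W) (δ : Γ(F, O))
    (h : f.appLE W O hOW a • δ = 0) :
    ∃ (W' : S.Opens), s ∈ W' ∧
      F.presheaf.map (homOfLE (inf_le_left : O ⊓ f ⁻¹ᵁ W' ≤ O)).op δ = 0 := by
  classical
  obtain ⟨t, ht⟩ := hO.elim_finite_subcover
    (fun V : {V : X.Opens // IsAffineOpen V ∧ V ≤ O} => (V.1 : Set X)) (fun V => V.1.isOpen)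
    (fun x hx => by
      obtain ⟨_, ⟨V, hV, rfl⟩, hxV, hVU⟩ := X.isBasis_affineOpens.exists_subset_of_mem_open hx O.isOpen
      exact Set.mem_iUnion.mpr ⟨⟨V, hV, hVU⟩, hxV⟩)
  have hh : ∀ V : t, ∃ (W' : S.Opens), s ∈ W' ∧
      F.presheaf.map (homOfLE (inf_le_left : V.1.1 ⊓ f ⁻¹ᵁ W' ≤ V.1.1)).op
        (F.presheaf.map (homOfLE V.1.2.2).op δ) = 0 := fun V => by
    refine exists_zero_affine hflat hW hsW a ha V.1.2.1 (V.1.2.2.trans hOW) _ ?_
    have h1 := congrArg (F.presheaf.map (homOfLE V.1.2.2).op) h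
    rw [AssPointLib.res_smul, map_zero, ← ConcreteCategory.comp_apply, Scheme.Hom.appLE_map] at h1
    exact h1
  choose Wt hsWt hWt using hh
  let W' : S.Opens := Finset.univ.inf Wt
  have hsW' : s ∈ W' := by
    show s ∈ ((Finset.univ.inf Wt : S.Opens) : Set S)
    rw [TopologicalSpace.Opens.coe_finset_inf]
    simp only [SetLike.mem_coe, Finset.inf_set_eq_iInter, Function.comp_apply, Set.mem_iInter]
    exact fun i _ => hsWt i
  refine ⟨W', hsW', ?_⟩
  refine ext_cover F (fun V : t => V.1.1 ⊓ f ⁻¹ᵁ W') (fun V => inf_le_inf_right _ V.1.2.2) ?_ _ 0 fun V => ?_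
  · intro x hx
    obtain ⟨V, hV, hxV⟩ := Set.mem_iUnion₂.mp (ht hx.1)
    exact Opens.mem_iSup.mpr ⟨⟨V, hV⟩, hxV, hx.2⟩
  · have hle : V.1.1 ⊓ f ⁻¹ᵁ W' ≤ V.1.1 ⊓ f ⁻¹ᵁ Wt V :=
      inf_le_inf_left _ fun x hx => (Finset.inf_le (Finset.mem_univ V) : W' ≤ Wt V) hx
    have h1 := congrArg (F.presheaf.map (homOfLE hle).op) (hWt V)
    rw [rs_rs, rs_rs, map_zero] at h1
    rw [rs_rs, map_zero]
    exact h1

/-- Lifting a division by `a` from the local ring to an affine open upstairs. -/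
theorem exists_div_affine [Coh.IsQCoh F] (hflat : FlatMod.IsFlatOver f F) {s : S} {W : S.Opens}
    (hW : IsAffineOpen W) (hsW : s ∈ W) (a b : Γ(S, W))
    (hb : ∀ c : S.presheaf.stalk s, (∃ d, S.presheaf.germ W s hsW b * c = S.presheaf.germ W s hsW a * d) →
      ∃ e, c = S.presheaf.germ W s hsW a * e)
    {V : X.Opens} (hV : IsAffineOpen V) (hVW : V ≤ f ⁻¹ᵁ W) (σ τ : Γ(F, V))
    (h : f.appLE W V hVW b • σ = f.appLE W V hVW a • τ) :
    ∃ (W' : S.Opens), s ∈ W' ∧ ∃ ν : Γ(F, V ⊓ f ⁻¹ᵁ W'),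
      F.presheaf.map (homOfLE (inf_le_left : V ⊓ f ⁻¹ᵁ W' ≤ V)).op σ =
        f.appLE W (V ⊓ f ⁻¹ᵁ W') (inf_le_left.trans hVW) a • ν := by
  classical
  letI : Algebra Γ(S, W) Γ(X, V) := (f.appLE W V hVW).hom.toAlgebra
  letI : Module Γ(S, W) Γ(F, V) := Module.compHom Γ(F, V) (f.appLE W V hVW).hom
  haveI : IsScalarTower Γ(S, W) Γ(X, V) Γ(F, V) := IsScalarTower.of_algebraMap_smul fun _ _ => rfl
  haveI : Module.Flat Γ(S, W) Γ(F, V) := MiscFlat6.QFlat.flat_sections f F hflat W hW V hV hVW rfl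
  obtain ⟨k, c, y, hc, hc0⟩ := Module.Flat.isTrivialRelation_of_sum_smul_eq_zero
    (f := ![b, a]) (x := ![σ, -τ]) (by
      rw [Fin.sum_univ_two]
      show f.appLE W V hVW b • σ + f.appLE W V hVW a • -τ = 0
      rw [smul_neg, h, add_neg_cancel])
  have hg : ∀ j, ∃ e, S.presheaf.germ W s hsW (c 0 j) = S.presheaf.germ W s hsW a * e := fun j => by
    refine hb _ ⟨-S.presheaf.germ W s hsW (c 1 j), ?_⟩
    have := congrArg (S.presheaf.germ W s hsW) (hc0 j)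
    rw [Fin.sum_univ_two, map_zero, map_add, map_mul, map_mul] at this
    rw [mul_neg]
    exact eq_neg_of_add_eq_zero_left this
  choose e he using hg
  choose We hsWe σe hσe using fun j => TopCat.Presheaf.exists_germ_eq S.presheaf (x := s) (e j)
  let W₀ : S.Opens := W ⊓ Finset.univ.inf We
  have hsW₀ : s ∈ W₀ := by
    refine ⟨hsW, ?_⟩
    show s ∈ ((Finset.univ.inf We : S.Opens) : Set S)
    rw [TopologicalSpace.Opens.coe_finset_inf]
    simp only [SetLike.mem_coe, Finset.inf_set_eq_iInter, Function.comp_apply, Set.mem_iInter]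
    exact fun i _ => hsWe i
  have hWe : ∀ j, W₀ ≤ We j := fun j => inf_le_right.trans (Finset.inf_le (Finset.mem_univ j))
  let e₀ : Fin k → Γ(S, W₀) := fun j => S.presheaf.map (homOfLE (hWe j)).op (σe j)
  obtain ⟨W', hW', hsW', hz⟩ := exists_zero hsW₀
    (fun j => S.presheaf.map (homOfLE (inf_le_left : W₀ ≤ W)).op (c 0 j) -
      S.presheaf.map (homOfLE (inf_le_left : W₀ ≤ W)).op a * e₀ j) fun j => by
      simp only [e₀, map_sub, map_mul]
      rw [appLE_res_germ hsW inf_le_left hsW₀, appLE_res_germ hsW inf_le_left hsW₀,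
        appLE_res_germ (hsWe j) (hWe j) hsW₀, hσe j, he j, sub_self]
  let O : X.Opens := V ⊓ f ⁻¹ᵁ W'
  have hOW' : O ≤ f ⁻¹ᵁ W' := inf_le_right
  refine ⟨W', hsW', ∑ j, f.appLE W' O hOW' (S.presheaf.map (homOfLE hW').op (e₀ j)) •
    F.presheaf.map (homOfLE (inf_le_left : O ≤ V)).op (y j), ?_⟩
  have hσ : σ = ∑ j, c 0 j • y j := hc 0
  rw [hσ, map_sum, Finset.smul_sum]
  refine Finset.sum_congr rfl fun j _ => ?_
  have he' : c 0 j • y j = f.appLE W V hVW (c 0 j) • y j := rfl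
  rw [he', AssPointLib.res_smul, ← mul_smul]
  congr 1
  have hz' : S.presheaf.map (homOfLE (hW'.trans inf_le_left : W' ≤ W)).op (c 0 j) =
      S.presheaf.map (homOfLE (hW'.trans inf_le_left : W' ≤ W)).op a * S.presheaf.map (homOfLE hW').op (e₀ j) := by
    have h1 := hz j
    rw [map_sub, map_mul, sub_eq_zero, rr_rr, rr_rr] at h1
    exact h1
  rw [res_appLE f (hW'.trans inf_le_left) hVW inf_le_left hOW', hz', map_mul]
  congr 1
  rw [← ConcreteCategory.comp_apply, Scheme.Hom.map_appLE]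

/-- An element regular on the local ring is regular on the stalk of the direct image. -/
theorem isSMulRegular_push [QuasiCompact f] [Coh.IsQCoh F] (hflat : FlatMod.IsFlatOver f F) {s : S}
    {α : S.presheaf.stalk s} (hα : IsSMulRegular (S.presheaf.stalk s) α) :
    IsSMulRegular ((St s).obj (G f F)) α := by
  refine isSMulRegular_iff_right_eq_zero_of_smul.mpr fun m hm => ?_
  obtain ⟨W₁, hsW₁, a₁, rfl⟩ := TopCat.Presheaf.exists_germ_eq S.presheaf (x := s) α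
  obtain ⟨W₂, hsW₂, σ₂, rfl⟩ := exists_gm_eq (G f F) s m
  let W₀ : S.Opens := W₁ ⊓ W₂
  have hsW₀ : s ∈ W₀ := ⟨hsW₁, hsW₂⟩
  let a₀ : Γ(S, W₀) := S.presheaf.map (homOfLE (inf_le_left : W₀ ≤ W₁)).op a₁
  let σ₀ : Γ(G f F, W₀) := (G f F).presheaf.map (homOfLE (inf_le_right : W₀ ≤ W₂)).op σ₂
  obtain ⟨W, hW, hsW, hWa, he⟩ := exists_common (G f F) hsW₀ (fun _ : Unit => a₀ • σ₀) (fun _ => 0) fun _ => by
    rw [gm_smul, gm_zero, show gm (G f F) s hsW₀ σ₀ = gm (G f F) s hsW₂ σ₂ from gm_map _ _ _ _ _,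
      show S.presheaf.germ W₀ s hsW₀ a₀ = S.presheaf.germ W₁ s hsW₁ a₁ from
        TopCat.Presheaf.germ_res_apply _ _ _ _ _]
    exact hm
  let aW : Γ(S, W) := S.presheaf.map (homOfLE hW).op a₀
  let σ : Γ(F, f ⁻¹ᵁ W) := (G f F).presheaf.map (homOfLE hW).op σ₀
  have h2 := he ()
  simp only [map_zero] at h2
  erw [QCohLib.map_smul'] at h2
  obtain ⟨W', hsW', hz⟩ := exists_zero_compact hflat hWa hsW aW
    (by
      rw [show S.presheaf.germ W s hsW aW = S.presheaf.germ W₁ s hsW₁ a₁ from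
        (appLE_res_germ hsW₀ hW hsW a₀).trans (appLE_res_germ hsW₁ inf_le_left hsW₀ a₁)]
      exact hα)
    (QuasiCompact.isCompact_preimage (f := f) W W.isOpen hWa.isCompact) le_rfl σ
    (by rw [Scheme.Hom.appLE_eq_app]; exact h2)
  have hs' : s ∈ W ⊓ W' := ⟨hsW, hsW'⟩
  have h3 : (G f F).presheaf.map (homOfLE (inf_le_left : W ⊓ W' ≤ W)).op
      (show Γ(G f F, W) from σ) = 0 := hz
  have h4 := gm_map (G f F) (inf_le_left : W ⊓ W' ≤ W) s hs' (show Γ(G f F, W) from σ)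
  rw [h3, gm_zero] at h4
  exact ((h4.trans (gm_map (G f F) hW s hsW σ₀)).trans (gm_map (G f F) inf_le_right s hsW₀ σ₂)).symm

/-- A `O/αO`-regular element is regular on the stalk of the direct image modulo `α`. -/
theorem exists_div_push [QuasiCompact f] [QuasiSeparated f] [Coh.IsQCoh F]
    (hflat : FlatMod.IsFlatOver f F) {s : S}
    {α β : S.presheaf.stalk s} (hα : IsSMulRegular (S.presheaf.stalk s) α)
    (hβ : ∀ c : S.presheaf.stalk s, (∃ d, β * c = α * d) → ∃ e, c = α * e)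
    (m n : (St s).obj (G f F)) (h : β • m = α • n) : ∃ q, m = α • q := by
  classical
  obtain ⟨W₁, hsW₁, a₁, rfl⟩ := TopCat.Presheaf.exists_germ_eq S.presheaf (x := s) α
  obtain ⟨W₂, hsW₂, b₂, rfl⟩ := TopCat.Presheaf.exists_germ_eq S.presheaf (x := s) β
  obtain ⟨W₃, hsW₃, σ₃, rfl⟩ := exists_gm_eq (G f F) s m
  obtain ⟨W₄, hsW₄, τ₄, rfl⟩ := exists_gm_eq (G f F) s n
  let W₀ : S.Opens := W₁ ⊓ W₂ ⊓ W₃ ⊓ W₄
  have hsW₀ : s ∈ W₀ := ⟨⟨⟨hsW₁, hsW₂⟩, hsW₃⟩, hsW₄⟩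
  have l1 : W₀ ≤ W₁ := inf_le_left.trans (inf_le_left.trans inf_le_left)
  have l2 : W₀ ≤ W₂ := inf_le_left.trans (inf_le_left.trans inf_le_right)
  have l3 : W₀ ≤ W₃ := inf_le_left.trans inf_le_right
  have l4 : W₀ ≤ W₄ := inf_le_right
  obtain ⟨W, hW, hsW, hWa, he⟩ := exists_common (G f F) hsW₀
    (fun _ : Unit => S.presheaf.map (homOfLE l2).op b₂ • (G f F).presheaf.map (homOfLE l3).op σ₃)
    (fun _ => S.presheaf.map (homOfLE l1).op a₁ • (G f F).presheaf.map (homOfLE l4).op τ₄) fun _ => by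
      simp only [gm_smul, gm_map, TopCat.Presheaf.germ_res_apply]
      exact h
  let aW : Γ(S, W) := S.presheaf.map (homOfLE hW).op (S.presheaf.map (homOfLE l1).op a₁)
  let bW : Γ(S, W) := S.presheaf.map (homOfLE hW).op (S.presheaf.map (homOfLE l2).op b₂)
  let σ : Γ(F, f ⁻¹ᵁ W) := (G f F).presheaf.map (homOfLE hW).op ((G f F).presheaf.map (homOfLE l3).op σ₃)
  let τ : Γ(F, f ⁻¹ᵁ W) := (G f F).presheaf.map (homOfLE hW).op ((G f F).presheaf.map (homOfLE l4).op τ₄)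
  have h2 : f.app W bW • σ = f.app W aW • τ := by
    have h2 := he ()
    erw [QCohLib.map_smul', QCohLib.map_smul'] at h2
    exact h2
  have ga : S.presheaf.germ W s hsW aW = S.presheaf.germ W₁ s hsW₁ a₁ := by
    simp only [aW, TopCat.Presheaf.germ_res_apply]
  have gb : S.presheaf.germ W s hsW bW = S.presheaf.germ W₂ s hsW₂ b₂ := by
    simp only [bW, TopCat.Presheaf.germ_res_apply]
  obtain ⟨t, ht⟩ := (QuasiCompact.isCompact_preimage (f := f) W W.isOpen hWa.isCompact).elim_finite_subcover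
    (fun V : {V : X.Opens // IsAffineOpen V ∧ V ≤ f ⁻¹ᵁ W} => (V.1 : Set X)) (fun V => V.1.isOpen)
    (fun x hx => by
      obtain ⟨_, ⟨V, hV, rfl⟩, hxV, hVU⟩ := X.isBasis_affineOpens.exists_subset_of_mem_open hx (f ⁻¹ᵁ W).isOpen
      exact Set.mem_iUnion.mpr ⟨⟨V, hV, hVU⟩, hxV⟩)
  have hh : ∀ V : t, ∃ (W' : S.Opens), s ∈ W' ∧ ∃ ν : Γ(F, V.1.1 ⊓ f ⁻¹ᵁ W'),
      F.presheaf.map (homOfLE (inf_le_left : V.1.1 ⊓ f ⁻¹ᵁ W' ≤ V.1.1)).op
          (F.presheaf.map (homOfLE V.1.2.2).op σ) =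
        f.appLE W (V.1.1 ⊓ f ⁻¹ᵁ W') (inf_le_left.trans V.1.2.2) aW • ν := fun V => by
    refine exists_div_affine hflat hWa hsW aW bW (by rw [ga, gb]; exact hβ) V.1.2.1 V.1.2.2 _
      (F.presheaf.map (homOfLE V.1.2.2).op τ) ?_
    have h3 := congrArg (F.presheaf.map (homOfLE V.1.2.2).op) h2
    rw [AssPointLib.res_smul, AssPointLib.res_smul, res_app, res_app] at h3
    exact h3
  choose Wt hsWt ν hν using hh
  let W₅ : S.Opens := W ⊓ Finset.univ.inf Wt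
  have hsW₅ : s ∈ (W₅ : Set S) := by
    refine ⟨hsW, ?_⟩
    rw [TopologicalSpace.Opens.coe_finset_inf]
    simp only [SetLike.mem_coe, Finset.inf_set_eq_iInter, Function.comp_apply, Set.mem_iInter]
    exact fun i _ => hsWt i
  obtain ⟨_, ⟨U, hU, rfl⟩, hsU, hUW₅⟩ := S.isBasis_affineOpens.exists_subset_of_mem_open hsW₅ W₅.2
  replace hU : IsAffineOpen U := hU
  have hUW : U ≤ W := le_trans (hUW₅ : U ≤ W₅) inf_le_left
  have hUt : ∀ V, U ≤ Wt V := fun V =>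
    le_trans (hUW₅ : U ≤ W₅) (inf_le_right.trans (Finset.inf_le (Finset.mem_univ V)))
  let aU : Γ(S, U) := S.presheaf.map (homOfLE hUW).op aW
  have gaU : S.presheaf.germ U s hsU aU = S.presheaf.germ W₁ s hsW₁ a₁ :=
    (TopCat.Presheaf.germ_res_apply _ _ _ _ _).trans ga
  let D : t → X.Opens := fun V => V.1.1 ⊓ f ⁻¹ᵁ U
  have hDU : ∀ V, D V ≤ f ⁻¹ᵁ U := fun V => inf_le_right
  have hDV : ∀ V, D V ≤ V.1.1 ⊓ f ⁻¹ᵁ Wt V := fun V => inf_le_inf_left _ fun x hx => hUt V hx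
  let μ : ∀ V, Γ(F, D V) := fun V => F.presheaf.map (homOfLE (hDV V)).op (ν V)
  have hDW : ∀ V, D V ≤ f ⁻¹ᵁ W := fun V => inf_le_left.trans V.1.2.2
  have hμ : ∀ V, F.presheaf.map (homOfLE (hDW V)).op σ = f.appLE U (D V) (hDU V) aU • μ V := fun V => by
    have h3 := congrArg (F.presheaf.map (homOfLE (hDV V)).op) (hν V)
    rw [rs_rs, rs_rs, AssPointLib.res_smul, res_appLE f hUW _ (hDV V) (hDU V)] at h3
    exact h3
  have hpair : ∀ p : t × t, ∃ (W' : S.Opens), s ∈ W' ∧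
      F.presheaf.map (homOfLE (inf_le_left : (D p.1 ⊓ D p.2) ⊓ f ⁻¹ᵁ W' ≤ D p.1 ⊓ D p.2)).op
        (F.presheaf.map (homOfLE (inf_le_left : D p.1 ⊓ D p.2 ≤ D p.1)).op (μ p.1) -
          F.presheaf.map (homOfLE (inf_le_right : D p.1 ⊓ D p.2 ≤ D p.2)).op (μ p.2)) = 0 := fun p => by
    refine exists_zero_compact hflat hU hsU aU (by rw [gaU]; exact hα) ?_
      (inf_le_left.trans (hDU p.1)) _ ?_
    · have hq := f.isQuasiSeparated_preimage hWa.isQuasiSeparated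
      have h12 : IsCompact ((p.1.1.1 : Set X) ∩ p.2.1.1) :=
        hq _ _ p.1.1.2.2 p.1.1.1.isOpen p.1.1.2.1.isCompact p.2.1.2.2 p.2.1.1.isOpen p.2.1.2.1.isCompact
      have h3 : IsCompact ((p.1.1.1 ⊓ p.2.1.1 : X.Opens) ∩ (f ⁻¹ᵁ U : X.Opens) : Set X) :=
        hq _ _ (fun x hx => p.1.1.2.2 hx.1) (p.1.1.1 ⊓ p.2.1.1).isOpen h12
          (fun x hx => hUW hx) (f ⁻¹ᵁ U).isOpen (QuasiCompact.isCompact_preimage (f := f) U U.isOpen hU.isCompact)
      have e : ((D p.1 ⊓ D p.2 : X.Opens) : Set X) =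
          ((p.1.1.1 ⊓ p.2.1.1 : X.Opens) : Set X) ∩ ((f ⁻¹ᵁ U : X.Opens) : Set X) := by
        ext x
        exact ⟨fun hx => ⟨⟨hx.1.1, hx.2.1⟩, hx.1.2⟩, fun hx => ⟨⟨hx.1.1, hx.2⟩, ⟨hx.1.2, hx.2⟩⟩⟩
      rw [e]
      exact h3
    · have i1 := congrArg (F.presheaf.map (homOfLE (inf_le_left : D p.1 ⊓ D p.2 ≤ D p.1)).op) (hμ p.1)
      have i2 := congrArg (F.presheaf.map (homOfLE (inf_le_right : D p.1 ⊓ D p.2 ≤ D p.2)).op) (hμ p.2)
      rw [rs_rs, AssPointLib.res_smul, ← ConcreteCategory.comp_apply, Scheme.Hom.appLE_map] at i1 i2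
      rw [smul_sub, ← i1, ← i2, sub_self]
  choose Wp hsWp hWp using hpair
  let W₆ : S.Opens := U ⊓ Finset.univ.inf Wp
  have hsW₆ : s ∈ W₆ := by
    refine ⟨hsU, ?_⟩
    show s ∈ ((Finset.univ.inf Wp : S.Opens) : Set S)
    rw [TopologicalSpace.Opens.coe_finset_inf]
    simp only [SetLike.mem_coe, Finset.inf_set_eq_iInter, Function.comp_apply, Set.mem_iInter]
    exact fun i _ => hsWp i
  have hW₆U : W₆ ≤ U := inf_le_left
  have hW₆p : ∀ p, W₆ ≤ Wp p := fun p => inf_le_right.trans (Finset.inf_le (Finset.mem_univ p))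
  let E : t → X.Opens := fun V => D V ⊓ f ⁻¹ᵁ W₆
  have hcov : f ⁻¹ᵁ W₆ ≤ iSup E := by
    intro x hx
    obtain ⟨V, hV, hxV⟩ := Set.mem_iUnion₂.mp (ht (show x ∈ f ⁻¹ᵁ W from hUW (hW₆U hx)))
    exact Opens.mem_iSup.mpr ⟨⟨V, hV⟩, ⟨hxV, hW₆U hx⟩, hx⟩
  obtain ⟨q, hq⟩ := glue_cover F E (fun V => inf_le_right) hcov
    (fun V => F.presheaf.map (homOfLE (inf_le_left : E V ≤ D V)).op (μ V)) fun V V' => by
      have hle : E V ⊓ E V' ≤ (D V ⊓ D V') ⊓ f ⁻¹ᵁ Wp (V, V') := fun x hx =>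
        ⟨⟨hx.1.1, hx.2.1⟩, hW₆p (V, V') hx.1.2⟩
      have h3 := congrArg (F.presheaf.map (homOfLE hle).op) (hWp (V, V'))
      rw [map_sub, map_sub, map_zero, sub_eq_zero] at h3
      simp only [μ, rs_rs] at h3
      exact ((rs_rs F _ _ (μ V)).trans (rs_rs F (hDV V) _ (ν V))).trans
        (h3.trans ((rs_rs F _ _ (μ V')).trans (rs_rs F (hDV V') _ (ν V'))).symm)
  have hW₆W : W₆ ≤ W := hW₆U.trans hUW
  have hfin : (show Γ(F, f ⁻¹ᵁ W₆) from (G f F).presheaf.map (homOfLE hW₆W).op (show Γ(G f F, W) from σ)) =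
      f.app W₆ (S.presheaf.map (homOfLE hW₆W).op aW) • q := by
    refine ext_cover F E (fun V => inf_le_right) hcov _ _ fun V => ?_
    rw [AssPointLib.res_smul, hq, res_app]
    have h3 := congrArg (F.presheaf.map (homOfLE (inf_le_left : E V ≤ D V)).op) (hμ V)
    rw [rs_rs, AssPointLib.res_smul, res_appLE f hW₆U _ inf_le_left inf_le_right] at h3
    refine Eq.trans ?_ (h3.trans ?_)
    · exact rs_rs F _ _ σ
    · simp only [aU, ← ConcreteCategory.comp_apply, ← Functor.map_comp]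
      rfl
  refine ⟨gm (G f F) s hsW₆ (show Γ(G f F, W₆) from q), ?_⟩
  have h3 := congrArg (fun z : Γ(F, f ⁻¹ᵁ W₆) => gm (G f F) s hsW₆ (show Γ(G f F, W₆) from z)) hfin
  refine Eq.trans ?_ (h3.trans ?_)
  · exact (((gm_map (G f F) hW₆W s hsW₆ σ).trans (gm_map _ _ _ _ _)).trans (gm_map _ _ _ _ _)).symm
  · refine (gm_smul (G f F) s hsW₆ _ q).trans ?_
    rw [TopCat.Presheaf.germ_res_apply, ga]

theorem exists_seq {R : Type u} [CommRing R] [IsLocalRing R] {n : ℕ}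
    (h : (n + 1 : ℕ) ≤ LocCoh.depth R R) :
    ∃ rs : List R, rs.length = n + 1 ∧ (∀ r ∈ rs, r ∈ IsLocalRing.maximalIdeal R) ∧ IsWeaklyRegular R rs := by
  have hne : IsLocalRing.maximalIdeal R • (⊤ : Submodule R R) ≠ ⊤ := by
    rw [smul_eq_mul, Ideal.mul_top]
    exact Ideal.IsPrime.ne_top'
  rw [LocCoh.depth, LocCoh.idealDepth, if_neg hne] at h
  have h' : (n : ℕ∞) < ⨆ (rs : List R) (_ : IsWeaklyRegular R rs ∧
      ∀ r ∈ rs, r ∈ IsLocalRing.maximalIdeal R), (rs.length : ℕ∞) :=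
    lt_of_lt_of_le (by exact_mod_cast Nat.lt_succ_self n) h
  simp only [lt_iSup_iff, Nat.cast_lt] at h'
  obtain ⟨rs, ⟨hr, hm⟩, hlt⟩ := h'
  refine ⟨rs.take (n + 1), by simp; omega, fun r hr => hm r (List.take_subset _ _ hr), ?_⟩
  rw [← List.take_append_drop (n + 1) rs, isWeaklyRegular_append_iff] at hr
  exact hr.1

theorem le_depth_of_seq {R M : Type u} [CommRing R] [IsLocalRing R] [AddCommGroup M] [Module R M]
    {rs : List R} (hm : ∀ r ∈ rs, r ∈ IsLocalRing.maximalIdeal R) (hr : IsWeaklyRegular M rs) :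
    (rs.length : ℕ∞) ≤ LocCoh.depth R M := by
  rw [LocCoh.depth, LocCoh.idealDepth]
  split_ifs
  · exact le_top
  · exact le_iSup₂_of_le rs ⟨hr, hm⟩ le_rfl

theorem quot_mk_eq_zero {R M : Type u} [CommRing R] [AddCommGroup M] [Module R M] {a : R} {m : M} :
    (Submodule.Quotient.mk m : QuotSMulTop a M) = 0 ↔ ∃ n, m = a • n := by
  rw [Submodule.Quotient.mk_eq_zero, Submodule.mem_smul_pointwise_iff_exists]
  exact ⟨fun ⟨n, _, h⟩ => ⟨n, h.symm⟩, fun ⟨n, h⟩ => ⟨n, trivial, h.symm⟩⟩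

theorem min_le_depth [QuasiCompact f] [QuasiSeparated f] [Coh.IsQCoh F]
    (hflat : FlatMod.IsFlatOver f F) (s : S) :
    min (2 : ℕ∞) (LocCoh.depth (S.presheaf.stalk s) (S.presheaf.stalk s)) ≤
      LocCoh.depth (S.presheaf.stalk s) ((St s).obj (G f F)) := by
  let O := S.presheaf.stalk s
  let M := (St s).obj (G f F)
  refine ENat.forall_natCast_le_iff_le.mp fun n hn => ?_
  have hn2 : n ≤ 2 := by exact_mod_cast le_trans hn (min_le_left _ _)
  have hnd : (n : ℕ∞) ≤ LocCoh.depth O O := le_trans hn (min_le_right _ _)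
  match n, hn2, hnd with
  | 0, _, _ => exact zero_le
  | 1, _, hnd =>
    obtain ⟨rs, hl, hm, hr⟩ := exists_seq (n := 0) hnd
    obtain ⟨a, rfl⟩ := List.length_eq_one_iff.1 hl
    have := le_depth_of_seq (M := M) hm
      ((isWeaklyRegular_cons_iff M a []).mpr
        ⟨isSMulRegular_push hflat ((isWeaklyRegular_cons_iff O a []).mp hr).1, IsWeaklyRegular.nil _ _⟩)
    exact this
  | 2, _, hnd =>
    obtain ⟨rs, hl, hm, hr⟩ := exists_seq (n := 1) hnd
    obtain ⟨a, b, rfl⟩ := List.length_eq_two.1 hl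
    obtain ⟨ha, hr'⟩ := (isWeaklyRegular_cons_iff O a [b]).mp hr
    obtain ⟨hb, -⟩ := (isWeaklyRegular_cons_iff _ b []).mp hr'
    have hβ : ∀ c : O, (∃ d, b * c = a * d) → ∃ e, c = a * e := fun c ⟨d, hd⟩ => by
      refine quot_mk_eq_zero.mp (hb (?_ : b • (Submodule.Quotient.mk c : QuotSMulTop a O) = b • 0))
      rw [smul_zero, ← Submodule.Quotient.mk_smul]
      exact quot_mk_eq_zero.mpr ⟨d, hd⟩
    have := le_depth_of_seq (M := M) hm
      ((isWeaklyRegular_cons_iff M a [b]).mpr ⟨isSMulRegular_push hflat ha,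
        (isWeaklyRegular_cons_iff _ b []).mpr ⟨isSMulRegular_iff_right_eq_zero_of_smul.mpr fun z hz => by
          obtain ⟨m, rfl⟩ := Submodule.Quotient.mk_surjective _ z
          rw [← Submodule.Quotient.mk_smul] at hz
          obtain ⟨n, hn⟩ := quot_mk_eq_zero.mp hz
          exact quot_mk_eq_zero.mpr (exists_div_push hflat ha hβ m n hn), IsWeaklyRegular.nil _ _⟩⟩)
    exact this
  | n + 3, h, _ => omega

end DepthPushStalkLib
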