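import Groth.Agent.AssPointLib.Push
import Groth.Agent.MiscFlat6.QuasiFlat
import Groth.Agent.CommAlgDim.Depth
import Groth.Prelude.Def_CAlg
import Mathlib

/-!
# Depth of a stalk of a direct image
-/

set_option autoImplicit false
set_option backward.isDefEq.respectTransparency false
set_option linter.style.haveILetI false

universe u

open CategoryTheory CategoryTheory.Limits AlgebraicGeometry TopologicalSpace Opposite DevissLib

noncomputable section

namespace DepthPushStalkLib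

variable {X S : Scheme.{u}}

/-- Finitely many equalities of germs hold on one neighbourhood. -/
theorem exists_common (M : S.Modules) {W : S.Opens} {s : S} (hs : s ∈ W) {ι : Type*} [Finite ι]
    (σ τ : ι → Γ(M, W)) (h : ∀ i, gm M s hs (σ i) = gm M s hs (τ i)) :
    ∃ (W' : S.Opens) (hW : W' ≤ W), s ∈ W' ∧ IsAffineOpen W' ∧
      ∀ i, M.presheaf.map (homOfLE hW).op (σ i) = M.presheaf.map (homOfLE hW).op (τ i) := by
  classical
  haveI := Fintype.ofFinite ι
  choose V hV i₁ i₂ he using fun i => TopCat.Presheaf.germ_eq M.presheaf s hs hs (σ i) (τ i) (h i)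
  let V0 : S.Opens := W ⊓ Finset.univ.inf V
  have hV0 : s ∈ (V0 : Set S) := by
    refine ⟨hs, ?_⟩
    rw [TopologicalSpace.Opens.coe_finset_inf]
    simp only [SetLike.mem_coe, Finset.inf_set_eq_iInter, Function.comp_apply, Set.mem_iInter]
    exact fun i _ => hV i
  obtain ⟨_, ⟨W', hW', rfl⟩, hsW', hW'V⟩ := S.isBasis_affineOpens.exists_subset_of_mem_open hV0 V0.2
  replace hW' : IsAffineOpen W' := hW'
  have hle : W' ≤ V0 := hW'V
  refine ⟨W', hle.trans inf_le_left, hsW', hW', fun i => ?_⟩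
  have hi : W' ≤ V i := hle.trans (inf_le_right.trans (Finset.inf_le (Finset.mem_univ i)))
  have h2 := congrArg (M.presheaf.map (homOfLE hi).op) (he i)
  erw [QCohLib.map_map', QCohLib.map_map'] at h2
  exact h2

/-- A germ of a function vanishing. -/
theorem exists_zero {W : S.Opens} {s : S} (hs : s ∈ W) {ι : Type*} [Finite ι] (c : ι → Γ(S, W))
    (h : ∀ i, S.presheaf.germ W s hs (c i) = 0) :
    ∃ (W' : S.Opens) (hW : W' ≤ W), s ∈ W' ∧ ∀ i, S.presheaf.map (homOfLE hW).op (c i) = 0 := by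
  classical
  haveI := Fintype.ofFinite ι
  choose V hV i₁ i₂ he using fun i => TopCat.Presheaf.germ_eq S.presheaf s hs hs (c i) 0
    ((h i).trans (map_zero _).symm)
  let V0 : S.Opens := W ⊓ Finset.univ.inf V
  have hV0 : s ∈ (V0 : Set S) := by
    refine ⟨hs, ?_⟩
    rw [TopologicalSpace.Opens.coe_finset_inf]
    simp only [SetLike.mem_coe, Finset.inf_set_eq_iInter, Function.comp_apply, Set.mem_iInter]
    exact fun i _ => hV i
  refine ⟨V0, inf_le_left, hV0, fun i => ?_⟩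
  have hi : V0 ≤ V i := inf_le_right.trans (Finset.inf_le (Finset.mem_univ i))
  have h2 := congrArg (S.presheaf.map (homOfLE hi).op) (he i)
  rw [map_zero, map_zero, ← ConcreteCategory.comp_apply, ← Functor.map_comp] at h2
  exact h2

theorem cross_cancel {R N : Type*} [CommRing R] [AddCommGroup N] [Module R N] {a a' b b' : R} {m n : N}
    (ha : a * a' = 1) (hb : b * b' = 1) (h : b • m = a • n) : a' • m = b' • n := by
  calc a' • m = (b' * a') • (b • m) := by rw [← mul_smul, mul_right_comm, mul_comm b' b, hb, one_mul]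
    _ = (b' * a') • (a • n) := by rw [h]
    _ = b' • n := by rw [← mul_smul, mul_assoc, mul_comm a' a, ha, mul_one]

variable (f : X ⟶ S) (F : X.Modules)

/-- The direct image. -/
abbrev G : S.Modules := (Scheme.Modules.pushforward f).obj F

theorem res_eq {W W' : S.Opens} (hW : W' ≤ W) (σ : Γ(G f F, W)) :
    (G f F).presheaf.map (homOfLE hW).op σ =
      F.presheaf.map (homOfLE (fun _ hx => hW hx : f ⁻¹ᵁ W' ≤ f ⁻¹ᵁ W)).op σ := rfl

theorem smul_eq {W : S.Opens} (r : Γ(S, W)) (σ : Γ(G f F, W)) :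
    r • σ = (show Γ(G f F, W) from (f.app W r • (show Γ(F, f ⁻¹ᵁ W) from σ) : Γ(F, f ⁻¹ᵁ W))) := rfl

/-- Sections agreeing locally are equal. -/
theorem ext_cover {O : X.Opens} {ι : Type u} (V : ι → X.Opens) (hV : ∀ i, V i ≤ O) (hcov : O ≤ iSup V)
    (a b : Γ(F, O)) (h : ∀ i, F.presheaf.map (homOfLE (hV i)).op a = F.presheaf.map (homOfLE (hV i)).op b) :
    a = b :=
  TopCat.Sheaf.eq_of_locally_eq' ⟨F.presheaf, F.isSheaf⟩ V O (fun i => homOfLE (hV i)) hcov a b h

/-- Compatible sections glue. -/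
theorem glue_cover {O : X.Opens} {ι : Type u} (V : ι → X.Opens) (hV : ∀ i, V i ≤ O) (hcov : O ≤ iSup V)
    (n : ∀ i, Γ(F, V i))
    (hn : ∀ i j, F.presheaf.map (homOfLE (inf_le_left : V i ⊓ V j ≤ V i)).op (n i) =
      F.presheaf.map (homOfLE (inf_le_right : V i ⊓ V j ≤ V j)).op (n j)) :
    ∃ t : Γ(F, O), ∀ i, F.presheaf.map (homOfLE (hV i)).op t = n i := by
  obtain ⟨t, ht, -⟩ := TopCat.Sheaf.existsUnique_gluing'
    (⟨F.presheaf, F.isSheaf⟩ : TopCat.Sheaf AddCommGrpCat _) V O (fun i => homOfLE (hV i)) hcov n hn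
  exact ⟨t, ht⟩

theorem res_appLE {W W' : S.Opens} (hW : W' ≤ W) {V V' : X.Opens} (hVW : V ≤ f ⁻¹ᵁ W) (hV : V' ≤ V)
    (hVW' : V' ≤ f ⁻¹ᵁ W') (r : Γ(S, W)) :
    X.presheaf.map (homOfLE hV).op (f.appLE W V hVW r) = f.appLE W' V' hVW' (S.presheaf.map (homOfLE hW).op r) := by
  rw [← ConcreteCategory.comp_apply, Scheme.Hom.appLE_map, ← ConcreteCategory.comp_apply, Scheme.Hom.map_appLE]

theorem res_app {W : S.Opens} {V : X.Opens} (hVW : V ≤ f ⁻¹ᵁ W) (r : Γ(S, W)) :
    X.presheaf.map (homOfLE hVW).op (f.app W r) = f.appLE W V hVW r := by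
  rw [← Scheme.Hom.appLE_eq_app, ← ConcreteCategory.comp_apply, Scheme.Hom.appLE_map]

/-- The shared hypothesis of part (3): near `s`, the elements `y` of the maximal ideal have no common zero
upstairs. -/
theorem exists_cover [QuasiCompact f] {s : S} (hs : s ∉ Set.range (fun x => f x)) :
    ∃ (U : S.Opens) (_ : IsAffineOpen U) (hsU : s ∈ U) (ι : Type u) (_ : Finite ι) (y : ι → Γ(S, U)),
      (∀ i, S.presheaf.germ U s hsU (y i) ∈ IsLocalRing.maximalIdeal _) ∧
      ∀ x ∈ f ⁻¹ᵁ U, ∃ i, x ∈ X.basicOpen (f.app U (y i)) := by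
  classical
  obtain ⟨U₀, hU₀, hsU₀, -⟩ := exists_isAffineOpen_mem_and_subset (x := s) (U := ⊤) trivial
  obtain ⟨t, ht⟩ := (QuasiCompact.isCompact_preimage (f := f) U₀ U₀.isOpen hU₀.isCompact).elim_finite_subcover
    (fun V : {V : X.Opens // IsAffineOpen V ∧ V ≤ f ⁻¹ᵁ U₀} => (V.1 : Set X)) (fun V => V.1.isOpen)
    (fun x hx => by
      obtain ⟨_, ⟨V, hV, rfl⟩, hxV, hVU⟩ := X.isBasis_affineOpens.exists_subset_of_mem_open hx (f ⁻¹ᵁ U₀).isOpen
      exact Set.mem_iUnion.mpr ⟨⟨V, hV, hVU⟩, hxV⟩)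
  let p := hU₀.primeIdealOf ⟨s, hsU₀⟩
  haveI := p.isPrime
  have hV : ∀ V : t, ∃ h ∉ p.asIdeal, f.appLE U₀ V.1.1 V.1.2.2 h ∈
      p.asIdeal.map (f.appLE U₀ V.1.1 V.1.2.2).hom := by
    intro V
    by_contra hne
    push Not at hne
    have hd : Disjoint (p.asIdeal.map (f.appLE U₀ V.1.1 V.1.2.2).hom : Set Γ(X, V.1.1))
        ((p.asIdeal.primeCompl.map (f.appLE U₀ V.1.1 V.1.2.2).hom : Submonoid Γ(X, V.1.1)) : Set Γ(X, V.1.1)) := by
      refine Set.disjoint_left.mpr ?_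
      rintro _ hI ⟨h, hh, rfl⟩
      exact hne h hh hI
    obtain ⟨Q, hQp, hIQ, hQd⟩ := Ideal.exists_le_prime_disjoint _ _ hd
    apply hs
    refine ⟨V.1.2.1.fromSpec ⟨Q, hQp⟩, ?_⟩
    show f (V.1.2.1.fromSpec ⟨Q, hQp⟩) = s
    rw [AssPointLib.apply_fromSpec f hU₀ V.1.2.1 V.1.2.2]
    refine Eq.trans (congrArg hU₀.fromSpec (PrimeSpectrum.ext ?_)) (hU₀.fromSpec_primeIdealOf ⟨s, hsU₀⟩)
    refine le_antisymm (fun r hr => ?_) (Ideal.map_le_iff_le_comap.mp hIQ)
    by_contra hrp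
    exact Set.disjoint_left.mp hQd hr ⟨r, hrp, rfl⟩
  choose h hhp hhI using hV
  choose T hTp hT using fun V : t =>
    Submodule.mem_span_finite_of_mem_span (show f.appLE U₀ V.1.1 V.1.2.2 (h V) ∈
      Submodule.span Γ(X, V.1.1) ((f.appLE U₀ V.1.1 V.1.2.2).hom '' p.asIdeal) from hhI V)
  let hh : Γ(S, U₀) := ∏ V : t, h V
  have hhp' : hh ∉ p.asIdeal := fun hc => by
    obtain ⟨V, -, hV⟩ := (Ideal.IsPrime.prod_mem_iff (hp := p.isPrime)).mp hc
    exact hhp V hV
  have hsU : s ∈ S.basicOpen hh := (AssPointLib.mem_basicOpen_iff hU₀ hsU₀ hh).mpr hhp'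
  choose y₀ hy₀p hy₀ using fun (w : Σ V : t, ↥(T V)) => hTp w.1 w.2.2
  refine ⟨S.basicOpen hh, hU₀.basicOpen hh, hsU, Σ V : t, ↥(T V), inferInstance,
    fun w => S.presheaf.map (homOfLE (S.basicOpen_le hh)).op (y₀ w), fun w => ?_, fun x hx => ?_⟩
  · rw [TopCat.Presheaf.germ_res_apply]
    exact AssPointLib.germ_mem_maximal hU₀ hsU₀ (hy₀p w)
  · obtain ⟨V, hVt, hxV⟩ := Set.mem_iUnion₂.mp (ht (S.basicOpen_le hh hx : f x ∈ U₀))
    let V' : t := ⟨V, hVt⟩
    by_contra hno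
    push Not at hno
    have hxh : x ∈ X.basicOpen (f.appLE U₀ V.1 V.2.2 (h V')) := by
      rw [Scheme.basicOpen_appLE]
      refine ⟨hxV, ?_⟩
      have hdvd : h V' ∣ hh := Finset.dvd_prod_of_mem _ (Finset.mem_univ V')
      obtain ⟨c, hc⟩ := hdvd
      have := (hc ▸ hx : f x ∈ S.basicOpen (h V' * c))
      rw [Scheme.basicOpen_mul] at this
      exact this.1
    rw [AssPointLib.mem_basicOpen_iff V.2.1 hxV] at hxh
    refine hxh ?_
    have hle : Submodule.span Γ(X, V.1) (T V' : Set Γ(X, V.1)) ≤ (V.2.1.primeIdealOf ⟨x, hxV⟩).asIdeal := by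
      refine Submodule.span_le.mpr fun z hz => ?_
      let w : Σ W : t, ↥(T W) := ⟨V', ⟨z, hz⟩⟩
      by_contra hzq
      refine hno w ?_
      rw [← Scheme.preimage_basicOpen, Scheme.basicOpen_res]
      refine ⟨hx, ?_⟩
      have h1 : x ∈ X.basicOpen (f.appLE U₀ V.1 V.2.2 (y₀ w)) := by
        rw [AssPointLib.mem_basicOpen_iff V.2.1 hxV]
        rw [show f.appLE U₀ V.1 V.2.2 (y₀ w) = z from hy₀ w]
        exact hzq
      rw [Scheme.basicOpen_appLE] at h1
      exact h1.2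
    exact hle (hT V')

theorem cover_res {U W : S.Opens} (hWU : W ≤ U) {ι : Type u} (y : ι → Γ(S, U))
    (hcov : ∀ x ∈ f ⁻¹ᵁ U, ∃ i, x ∈ X.basicOpen (f.app U (y i))) :
    f ⁻¹ᵁ W ≤ ⨆ i, X.basicOpen (f.app W (S.presheaf.map (homOfLE hWU).op (y i))) := by
  intro x hx
  obtain ⟨i, hi⟩ := hcov x (hWU hx)
  refine Opens.mem_iSup.mpr ⟨i, ?_⟩
  rw [← Scheme.preimage_basicOpen, Scheme.basicOpen_res] 
  refine ⟨hx, ?_⟩
  rw [← Scheme.preimage_basicOpen] at hi
  exact hi

theorem rs_rs {O O' O'' : X.Opens} (h : O' ≤ O) (h' : O'' ≤ O') (σ : Γ(F, O)) :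
    F.presheaf.map (homOfLE h').op (F.presheaf.map (homOfLE h).op σ) =
      F.presheaf.map (homOfLE (h'.trans h)).op σ :=
  QCohLib.map_map' F _ _ σ

theorem rr_rr {O O' O'' : X.Opens} (h : O' ≤ O) (h' : O'' ≤ O') (r : Γ(X, O)) :
    X.presheaf.map (homOfLE h').op (X.presheaf.map (homOfLE h).op r) =
      X.presheaf.map (homOfLE (h'.trans h)).op r := by
  rw [← ConcreteCategory.comp_apply, ← Functor.map_comp]
  rfl

variable {f F}

theorem eq_zero_of_smul_eq_zero [QuasiCompact f] {s : S} (hs : s ∉ Set.range (fun x => f x))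
    (a : (St s).obj (G f F)) (ha : ∀ z ∈ IsLocalRing.maximalIdeal (S.presheaf.stalk s), z • a = 0) : a = 0 := by
  obtain ⟨U, hU, hsU, ι, _, y, hy, hcov⟩ := exists_cover f hs
  obtain ⟨W₁, hsW₁, σ₁, rfl⟩ := exists_gm_eq (G f F) s a
  let W₀ : S.Opens := W₁ ⊓ U
  have hsW₀ : s ∈ W₀ := ⟨hsW₁, hsU⟩
  let σ₀ : Γ(G f F, W₀) := (G f F).presheaf.map (homOfLE (inf_le_left : W₀ ≤ W₁)).op σ₁
  let y₀ : ι → Γ(S, W₀) := fun i => S.presheaf.map (homOfLE (inf_le_right : W₀ ≤ U)).op (y i)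
  obtain ⟨W, hW, hsW, -, he⟩ := exists_common (G f F) hsW₀ (fun i => y₀ i • σ₀) (fun _ => 0) fun i => by
    rw [gm_smul, gm_zero]
    simp only [σ₀, y₀]
    rw [gm_map, TopCat.Presheaf.germ_res_apply]
    exact ha _ (hy i)
  have hWU : W ≤ U := hW.trans inf_le_right
  let σ : Γ(G f F, W) := (G f F).presheaf.map (homOfLE hW).op σ₀
  suffices h0 : σ = 0 by
    have h1 := gm_map (G f F) hW s hsW σ₀
    rw [show ((G f F).presheaf.map (homOfLE hW).op σ₀) = 0 from h0, gm_zero] at h1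
    rw [h1]
    exact (gm_map (G f F) inf_le_left s hsW₀ σ₁).symm
  refine ext_cover F (fun i => X.basicOpen (f.app W (S.presheaf.map (homOfLE hWU).op (y i))))
    (fun i => X.basicOpen_le _) (cover_res f hWU y hcov) σ 0 fun i => ?_
  rw [map_zero]
  let r : Γ(X, f ⁻¹ᵁ W) := f.app W (S.presheaf.map (homOfLE hWU).op (y i))
  have hu : IsUnit (X.presheaf.map (homOfLE (X.basicOpen_le r)).op r) :=
    X.toRingedSpace.isUnit_res_basicOpen r
  refine hu.smul_eq_zero.mp ?_
  have h2 := he i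
  simp only [map_zero, y₀] at h2
  erw [QCohLib.map_smul'] at h2
  rw [← ConcreteCategory.comp_apply, ← Functor.map_comp] at h2
  refine (AssPointLib.res_smul F (X.basicOpen_le r) r σ).symm.trans ?_
  refine Eq.trans (congrArg _ ?_) (map_zero _)
  exact h2

theorem exists_smul_eq [QuasiCompact f] {s : S} (hs : s ∉ Set.range (fun x => f x))
    (x : S.presheaf.stalk s) (hx : IsSMulRegular ((St s).obj (G f F)) x) (a : (St s).obj (G f F))
    (ha : ∀ z ∈ IsLocalRing.maximalIdeal (S.presheaf.stalk s), ∃ b, z • a = x • b) :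
    ∃ c, a = x • c := by
  classical
  obtain ⟨U, hU, hsU, ι, _, y, hy, hcov⟩ := exists_cover f hs
  haveI := Fintype.ofFinite ι
  choose b hb using fun i => ha _ (hy i)
  obtain ⟨Wx, hsWx, xr, rfl⟩ := TopCat.Presheaf.exists_germ_eq S.presheaf (x := s) x
  obtain ⟨Wa, hsWa, σa, rfl⟩ := exists_gm_eq (G f F) s a
  choose Wb hsWb σb hσb using fun i => exists_gm_eq (G f F) s (b i)
  let W₀ : S.Opens := U ⊓ Wx ⊓ Wa ⊓ Finset.univ.inf Wb
  have hsW₀ : s ∈ W₀ := by
    refine ⟨⟨⟨hsU, hsWx⟩, hsWa⟩, ?_⟩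
    show s ∈ ((Finset.univ.inf Wb : S.Opens) : Set S)
    rw [TopologicalSpace.Opens.coe_finset_inf]
    simp only [SetLike.mem_coe, Finset.inf_set_eq_iInter, Function.comp_apply, Set.mem_iInter]
    exact fun i _ => hsWb i
  have l1 : W₀ ≤ U := inf_le_left.trans (inf_le_left.trans inf_le_left)
  have l2 : W₀ ≤ Wx := inf_le_left.trans (inf_le_left.trans inf_le_right)
  have l3 : W₀ ≤ Wa := inf_le_left.trans inf_le_right
  have l4 : ∀ i, W₀ ≤ Wb i := fun i => inf_le_right.trans (Finset.inf_le (Finset.mem_univ i))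
  let y₀ : ι → Γ(S, W₀) := fun i => S.presheaf.map (homOfLE l1).op (y i)
  let x₀ : Γ(S, W₀) := S.presheaf.map (homOfLE l2).op xr
  let a₀ : Γ(G f F, W₀) := (G f F).presheaf.map (homOfLE l3).op σa
  let b₀ : ι → Γ(G f F, W₀) := fun i => (G f F).presheaf.map (homOfLE (l4 i)).op (σb i)
  have gy : ∀ i, S.presheaf.germ W₀ s hsW₀ (y₀ i) = S.presheaf.germ U s hsU (y i) := fun i =>
    TopCat.Presheaf.germ_res_apply _ _ _ _ _
  have gx : S.presheaf.germ W₀ s hsW₀ x₀ = S.presheaf.germ Wx s hsWx xr :=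
    TopCat.Presheaf.germ_res_apply _ _ _ _ _
  have gb : ∀ i, gm (G f F) s hsW₀ (b₀ i) = b i := fun i => (gm_map _ _ _ _ _).trans (hσb i)
  have e1 : ∀ i, S.presheaf.germ U s hsU (y i) • gm (G f F) s hsW₀ a₀ =
      S.presheaf.germ Wx s hsWx xr • b i := fun i => by
    rw [show gm (G f F) s hsW₀ a₀ = gm (G f F) s hsWa σa from gm_map _ _ _ _ _]
    exact hb i
  have e2 : ∀ i j, S.presheaf.germ U s hsU (y i) • b j = S.presheaf.germ U s hsU (y j) • b i := fun i j => hx (by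
    show S.presheaf.germ Wx s hsWx xr • _ = S.presheaf.germ Wx s hsWx xr • _
    rw [smul_comm (S.presheaf.germ Wx s hsWx xr) (S.presheaf.germ U s hsU (y i)) (b j), ← e1 j,
      smul_comm (S.presheaf.germ Wx s hsWx xr) (S.presheaf.germ U s hsU (y j)) (b i), ← e1 i]
    exact smul_comm _ _ _)
  obtain ⟨W, hW, hsW, -, he⟩ := exists_common (G f F) hsW₀
    (fun w : ι ⊕ (ι × ι) => Sum.elim (fun i => y₀ i • a₀) (fun ij => y₀ ij.1 • b₀ ij.2) w)
    (fun w => Sum.elim (fun i => x₀ • b₀ i) (fun ij => y₀ ij.2 • b₀ ij.1) w) fun w => by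
      rcases w with i | ⟨i, j⟩
      · simp only [Sum.elim_inl, gm_smul, gy, gx, gb]
        exact e1 i
      · simp only [Sum.elim_inr, gm_smul, gy, gb]
        exact e2 i j
  let xW : Γ(S, W) := S.presheaf.map (homOfLE hW).op x₀
  let yW : ι → Γ(S, W) := fun i => S.presheaf.map (homOfLE hW).op (y₀ i)
  let aW : Γ(F, f ⁻¹ᵁ W) := (G f F).presheaf.map (homOfLE hW).op a₀
  let bW : ι → Γ(F, f ⁻¹ᵁ W) := fun i => (G f F).presheaf.map (homOfLE hW).op (b₀ i)
  have f1 : ∀ i, f.app W (yW i) • aW = f.app W xW • bW i := fun i => by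
    have h := he (Sum.inl i)
    simp only [Sum.elim_inl] at h
    erw [QCohLib.map_smul', QCohLib.map_smul'] at h
    exact h
  have f2 : ∀ i j, f.app W (yW i) • bW j = f.app W (yW j) • bW i := fun i j => by
    have h := he (Sum.inr (i, j))
    simp only [Sum.elim_inr] at h
    erw [QCohLib.map_smul', QCohLib.map_smul'] at h
    exact h
  let D : ι → X.Opens := fun i => X.basicOpen (f.app W (yW i))
  have hD : ∀ i, D i ≤ f ⁻¹ᵁ W := fun i => X.basicOpen_le _
  have hcovW : f ⁻¹ᵁ W ≤ iSup D := by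
    have h := cover_res f (hW.trans l1) y hcov
    simpa only [D, yW, y₀, ← ConcreteCategory.comp_apply, ← Functor.map_comp] using! h
  have hu : ∀ i, IsUnit (X.presheaf.map (homOfLE (hD i)).op (f.app W (yW i))) := fun i =>
    X.toRingedSpace.isUnit_res_basicOpen _
  obtain ⟨t, ht⟩ := glue_cover F D hD hcovW
    (fun i => ((hu i).unit⁻¹ : Γ(X, D i)ˣ).val • F.presheaf.map (homOfLE (hD i)).op (bW i)) fun i j => by
      have hi : D i ⊓ D j ≤ D i := inf_le_left
      have hj : D i ⊓ D j ≤ D j := inf_le_right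
      rw [AssPointLib.res_smul, AssPointLib.res_smul, rs_rs, rs_rs]
      have pI := congrArg (X.presheaf.map (homOfLE hi).op) (hu i).mul_val_inv
      have pJ := congrArg (X.presheaf.map (homOfLE hj).op) (hu j).mul_val_inv
      rw [map_mul, map_one, rr_rr] at pI pJ
      have h := congrArg (F.presheaf.map (homOfLE (hi.trans (hD i))).op) (f2 j i)
      rw [AssPointLib.res_smul, AssPointLib.res_smul] at h
      exact cross_cancel pI pJ h
  have hxt : f.app W xW • t = aW := by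
    refine ext_cover F D hD hcovW _ _ fun i => ?_
    rw [AssPointLib.res_smul, ht, smul_comm]
    have h := congrArg (F.presheaf.map (homOfLE (hD i)).op) (f1 i)
    rw [AssPointLib.res_smul, AssPointLib.res_smul] at h
    rw [← h, ← mul_smul, mul_comm, (hu i).mul_val_inv, one_smul]
  refine ⟨gm (G f F) s hsW (show Γ(G f F, W) from t), ?_⟩
  have h := congrArg (fun z : Γ(F, f ⁻¹ᵁ W) => gm (G f F) s hsW (show Γ(G f F, W) from z)) hxt
  refine Eq.trans ?_ (h.symm.trans ?_)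
  · exact ((gm_map (G f F) hW s hsW a₀).trans (gm_map _ _ _ _ _)).symm
  · refine (gm_smul (G f F) s hsW xW t).trans ?_
    simp only [xW, TopCat.Presheaf.germ_res_apply, gx]

theorem two_le_depth [QuasiCompact f] {s : S} (hs : s ∉ Set.range (fun x => f x))
    [IsNoetherianRing (S.presheaf.stalk s)] [Module.Finite (S.presheaf.stalk s) ((St s).obj (G f F))] :
    (2 : ℕ∞) ≤ LocCoh.depth (S.presheaf.stalk s) ((St s).obj (G f F)) := by
  let O := S.presheaf.stalk s
  let M := (St s).obj (G f F)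
  have hpr : ∀ (N : Type u) [AddCommGroup N] [Module O N] [Module.Finite O N],
      (∀ n : N, (∀ z ∈ IsLocalRing.maximalIdeal O, z • n = 0) → n = 0) →
      ∀ P ∈ associatedPrimes O N, ¬ IsLocalRing.maximalIdeal O ≤ P := by
    intro N _ _ _ hN P hP hle
    obtain ⟨hPp, n, hn⟩ := isAssociatedPrime_iff.1 hP
    have hn0 : n = 0 := hN n fun z hz => by
      have := hle hz
      rwa [hn, Submodule.mem_colon_singleton, Submodule.mem_bot] at this
    refine hPp.ne_top ((Ideal.eq_top_iff_one _).2 ?_)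
    rw [hn, hn0, Submodule.mem_colon_singleton, smul_zero]
    exact Submodule.zero_mem _
  obtain ⟨x, hxm, hx⟩ := CommAlgDim.exists_isSMulRegular_mem (M := M)
    (hpr M fun n hn => eq_zero_of_smul_eq_zero hs n hn)
  refine (CommAlgDim.le_depth_iff (R := O) (M := M) 2).2 (CommAlgDim.hasSeqIn_succ_of_cons hxm hx ?_)
  refine (CommAlgDim.hasSeqIn_one_iff _).2 (hpr _ fun n hn => ?_)
  obtain ⟨a, rfl⟩ := Submodule.Quotient.mk_surjective _ n
  obtain ⟨c, hc⟩ := exists_smul_eq hs x hx a fun z hz => by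
    have h := hn z hz
    rw [← Submodule.Quotient.mk_smul, Submodule.Quotient.mk_eq_zero,
      Submodule.mem_smul_pointwise_iff_exists] at h
    obtain ⟨b, -, hb⟩ := h
    exact ⟨b, hb.symm⟩
  rw [Submodule.Quotient.mk_eq_zero, hc]
  exact Submodule.smul_mem_pointwise_smul _ _ _ trivial

end DepthPushStalkLib
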